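import Groth.Agent.DAlg.Nilpotent
import Groth.Agent.DAlg.FlatAmp
import Mathlib.Algebra.Module.LocalizedModule.Basic

/-!
Vanishing of the cohomology of `P ⊗ M` by dévissage along a chain of finitely generated ideals.
-/

universe u

open CategoryTheory CategoryTheory.Limits HomologicalComplex MonoidalCategory
open scoped TensorProduct

set_option linter.style.haveILetI false

namespace Groth.GenStrata

open Groth.DAlg Groth.FlatCxBase

variable {R : Type u} [CommRing R] (P : DRing.Cx R)

/-- `H^i(P ⊗ M) = 0` for `i < 0`, stated for the module `M`. -/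
def NegVanish (M : Type u) [AddCommGroup M] [Module R M] : Prop :=
  ∀ i : ℤ, i < 0 → IsZero ((DRing.tensorCx P (ModuleCat.of R M)).homology i)

variable {P}

/-- A submodule, when the quotient has vanishing one degree lower. -/
theorem isZero_tensor_sub [∀ i, Module.Flat R (P.X i)] (j : ℤ) {N M Q : Type u} [AddCommGroup N] [Module R N]
    [AddCommGroup M] [Module R M] [AddCommGroup Q] [Module R Q] (f : N →ₗ[R] M) (g : M →ₗ[R] Q)
    (hf : Function.Injective f) (hex : Function.Exact f g) (hg : Function.Surjective g)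
    (hM : IsZero ((DRing.tensorCx P (ModuleCat.of R M)).homology j))
    (hQ : IsZero ((DRing.tensorCx P (ModuleCat.of R Q)).homology (j - 1))) :
    IsZero ((DRing.tensorCx P (ModuleCat.of R N)).homology j) := by
  refine (isZero_T_iff P (cochain_prev j) (cochain_next j) _).2 fun x hx => ?_
  obtain ⟨w, hw⟩ := (isZero_T_iff P (cochain_prev j) (cochain_next j) _).1 hM (f.lTensor (P.X j) x) (by
    show (P.d j (j + 1)).hom.rTensor M _ = 0
    rw [← lTensor_rTensor, hx, map_zero])
  have hw' : (P.d (j - 1) j).hom.rTensor M w = f.lTensor (P.X j) x := hw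
  have hc : (P.d (j - 1) j).hom.rTensor Q (g.lTensor (P.X (j - 1)) w) = 0 := by
    rw [← lTensor_rTensor, hw']
    exact (lTensor_exact (P.X j) hex hg).apply_apply_eq_zero x
  obtain ⟨v, hv⟩ := (isZero_T_iff P (cochain_prev (j - 1))
    ((ComplexShape.up ℤ).next_eq' (show j - 1 + 1 = j by omega)) _).1 hQ _ hc
  obtain ⟨v', rfl⟩ := LinearMap.lTensor_surjective (P.X (j - 1 - 1)) hg v
  have h1 : g.lTensor (P.X (j - 1)) (w - (P.d (j - 1 - 1) (j - 1)).hom.rTensor M v') = 0 := by
    rw [map_sub, lTensor_rTensor, sub_eq_zero]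
    exact hv.symm
  obtain ⟨y, hy⟩ := (lTensor_exact (P.X (j - 1)) hex hg _).1 h1
  refine ⟨y, ?_⟩
  show (P.d (j - 1) j).hom.rTensor N y = x
  apply Module.Flat.lTensor_preserves_injective_linearMap (M := P.X j) f hf
  rw [lTensor_rTensor, hy, map_sub, rTensor_d_d, sub_zero, hw']

/-- A directed union. -/
theorem isZero_tensor_union [∀ i, Module.Flat R (P.X i)] (j : ℤ) {M : Type u} [AddCommGroup M] [Module R M]
    (N : ℕ → Submodule R M) (hN : Monotone N) (hcov : ∀ m, ∃ n, m ∈ N n)
    (h : ∀ n, IsZero ((DRing.tensorCx P (ModuleCat.of R (N n))).homology j)) :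
    IsZero ((DRing.tensorCx P (ModuleCat.of R M)).homology j) := by
  refine (isZero_T_iff P (cochain_prev j) (cochain_next j) _).2 fun x hx => ?_
  obtain ⟨n, y, hy⟩ : ∃ n, ∃ y, (N n).subtype.lTensor (P.X j) y = x := by
    clear hx
    induction x using TensorProduct.induction_on with
    | zero => exact ⟨0, 0, map_zero _⟩
    | tmul p m =>
      obtain ⟨n, hn⟩ := hcov m
      exact ⟨n, p ⊗ₜ[R] (⟨m, hn⟩ : N n), rfl⟩
    | add a b ha hb =>
      obtain ⟨n, y, rfl⟩ := ha
      obtain ⟨k, z, rfl⟩ := hb
      refine ⟨max n k, (Submodule.inclusion (hN (le_max_left n k))).lTensor _ y +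
        (Submodule.inclusion (hN (le_max_right n k))).lTensor _ z, ?_⟩
      rw [map_add, ← LinearMap.comp_apply, ← LinearMap.comp_apply, ← LinearMap.lTensor_comp,
        ← LinearMap.lTensor_comp, Submodule.subtype_comp_inclusion, Submodule.subtype_comp_inclusion]
  obtain ⟨w, hw⟩ := (isZero_T_iff P (cochain_prev j) (cochain_next j) _).1 (h n) y (by
    show (P.d j (j + 1)).hom.rTensor (N n) y = 0
    apply Module.Flat.lTensor_preserves_injective_linearMap (M := P.X (j + 1)) (N n).subtype Subtype.val_injective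
    rw [map_zero, lTensor_rTensor, hy]
    exact hx)
  have hw' : (P.d (j - 1) j).hom.rTensor (N n) w = y := hw
  refine ⟨(N n).subtype.lTensor _ w, ?_⟩
  show (P.d (j - 1) j).hom.rTensor M _ = x
  rw [← lTensor_rTensor, hw', hy]

/-- One element: modules on which `g` is invertible and modules killed by `g`. -/
theorem negVanish_step [∀ i, Module.Flat R (P.X i)] (J : Ideal R) (g : R)
    (h₀ : ∀ (M : Type u) [AddCommGroup M] [Module R M], (∀ a ∈ J ⊔ Ideal.span {g}, ∀ m : M, a • m = 0) →
      NegVanish P M)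
    (h₁ : ∀ (M : Type u) [AddCommGroup M] [Module R M], (∀ a ∈ J, ∀ m : M, a • m = 0) →
      Function.Bijective (fun m : M => g • m) → NegVanish P M)
    (M : Type u) [AddCommGroup M] [Module R M] (hM : ∀ a ∈ J, ∀ m : M, a • m = 0) : NegVanish P M := by
  -- torsion modules
  have htors : ∀ (n : ℕ) (T : Type u) [AddCommGroup T] [Module R T], (∀ a ∈ J, ∀ m : T, a • m = 0) →
      (∀ m : T, g ^ n • m = 0) → NegVanish P T := by
    intro n
    induction n with
    | zero =>
      intro T _ _ _ hn i _
      haveI : Subsingleton T := ⟨fun a b => by simpa using (hn a).trans (hn b).symm⟩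
      exact isZero_tensor_of_subsingleton P i T
    | succ n ih =>
      intro T _ _ hT hn i hi
      let N : Submodule R T := LinearMap.range (LinearMap.lsmul R T g)
      refine isZero_tensor_ext P i N.subtype N.mkQ Subtype.val_injective (LinearMap.exact_subtype_mkQ N)
        N.mkQ_surjective (ih N (fun a ha m => Subtype.ext (hT a ha m)) ?_ i hi) (h₀ _ ?_ i hi)
      · rintro ⟨_, m, rfl⟩
        refine Subtype.ext ?_
        change g ^ n • (g • m) = 0
        rw [← mul_smul, ← pow_succ, hn]
      · intro a ha m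
        obtain ⟨m, rfl⟩ := N.mkQ_surjective m
        obtain ⟨b, hb, c, hc, rfl⟩ := Submodule.mem_sup.1 ha
        obtain ⟨r, rfl⟩ := Ideal.mem_span_singleton'.1 hc
        rw [← map_smul, Submodule.mkQ_apply, Submodule.Quotient.mk_eq_zero, add_smul, hT b hb, zero_add]
        exact ⟨r • m, by change g • r • m = (r * g) • m; rw [← mul_smul, mul_comm]⟩
  have hpow : ∀ (T : Type u) [AddCommGroup T] [Module R T], (∀ a ∈ J, ∀ m : T, a • m = 0) →
      (∀ m : T, ∃ n, g ^ n • m = 0) → NegVanish P T := by
    intro T _ _ hT htor i hi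
    let N : ℕ → Submodule R T := fun n => LinearMap.ker (LinearMap.lsmul R T (g ^ n))
    refine isZero_tensor_union i N (fun a b hab m hm => ?_) (fun m => htor m) fun n => ?_
    · change g ^ a • m = 0 at hm
      change g ^ b • m = 0
      rw [← Nat.sub_add_cancel hab, pow_add, mul_smul, hm, smul_zero]
    · exact htors n (N n) (fun a ha m => Subtype.ext (hT a ha m)) (fun m => Subtype.ext m.2) i hi
  intro i hi
  let S := Submonoid.powers g
  let L := LocalizedModule S M
  let ℓ : M →ₗ[R] L := LocalizedModule.mkLinearMap S M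
  haveI : IsLocalizedModule S ℓ := localizedModuleIsLocalizedModule S
  let I : Submodule R L := LinearMap.range ℓ
  have hLJ : ∀ a ∈ J, ∀ l : L, a • l = 0 := by
    intro a ha l
    obtain ⟨⟨m, s⟩, hms⟩ := IsLocalizedModule.surj S ℓ l
    apply ((IsLocalizedModule.map_units ℓ s))  |> (Module.End.isUnit_iff _).1 |>.1
    change (s : R) • (a • l) = (s : R) • (0 : L)
    rw [smul_zero, smul_comm, show (s : R) • l = ℓ m from hms, ← map_smul, hM a ha, map_zero]
  have hK : NegVanish P (LinearMap.ker ℓ) := hpow _ (fun a ha m => Subtype.ext (hM a ha m)) fun m => by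
    obtain ⟨⟨_, n, rfl⟩, hs⟩ := (IsLocalizedModule.eq_iff_exists S ℓ (x₁ := m.1) (x₂ := 0)).1
      (by rw [map_zero]; exact m.2)
    exact ⟨n, Subtype.ext (by simpa [Submonoid.smul_def] using hs)⟩
  have hC : NegVanish P (L ⧸ I) := hpow _ (fun a ha m => by
      obtain ⟨l, rfl⟩ := I.mkQ_surjective m
      rw [← map_smul, hLJ a ha, map_zero]) fun m => by
    obtain ⟨l, rfl⟩ := I.mkQ_surjective m
    obtain ⟨⟨x, ⟨_, n, rfl⟩⟩, hxs⟩ := IsLocalizedModule.surj S ℓ l
    refine ⟨n, ?_⟩
    rw [← map_smul, Submodule.mkQ_apply, Submodule.Quotient.mk_eq_zero]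
    exact ⟨x, hxs.symm⟩
  have hL : NegVanish P L := h₁ _ hLJ
    ((Module.End.isUnit_iff _).1 (IsLocalizedModule.map_units ℓ (⟨g, Submonoid.mem_powers g⟩ : S)))
  refine isZero_tensor_ext P i (LinearMap.ker ℓ).subtype ℓ.rangeRestrict Subtype.val_injective ?_
    (LinearMap.surjective_rangeRestrict _) (hK i hi) ?_
  · rw [LinearMap.exact_iff, LinearMap.ker_rangeRestrict, Submodule.range_subtype]
  · exact isZero_tensor_sub i I.subtype I.mkQ Subtype.val_injective (LinearMap.exact_subtype_mkQ I)
      I.mkQ_surjective (hL i hi) (hC (i - 1) (by omega))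

/-- Several elements. -/
theorem negVanish_finset [∀ i, Module.Flat R (P.X i)] (s : Finset R) : ∀ (J : Ideal R),
    (∀ (M : Type u) [AddCommGroup M] [Module R M], (∀ a ∈ J ⊔ Ideal.span s, ∀ m : M, a • m = 0) →
      NegVanish P M) →
    (∀ g ∈ s, ∀ (M : Type u) [AddCommGroup M] [Module R M], (∀ a ∈ J, ∀ m : M, a • m = 0) →
      Function.Bijective (fun m : M => g • m) → NegVanish P M) →
    ∀ (M : Type u) [AddCommGroup M] [Module R M], (∀ a ∈ J, ∀ m : M, a • m = 0) → NegVanish P M := by
  classical
  induction s using Finset.induction with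
  | empty =>
    intro J h₀ _ M _ _ hM
    exact h₀ M (by simpa using hM)
  | insert g s _ ih =>
    intro J h₀ h₁
    refine negVanish_step J g (ih (J ⊔ Ideal.span {g}) (fun M _ _ hM => h₀ M ?_)
      fun g' hg' M _ _ hM hb => h₁ g' (Finset.mem_insert_of_mem hg') M (fun a ha => hM a (Ideal.mem_sup_left ha)) hb)
      (h₁ g (Finset.mem_insert_self g s))
    rw [Finset.coe_insert, Ideal.span_insert, ← sup_assoc]
    exact hM

/-- A chain of ideals with nilpotent first step. -/
theorem negVanish_chain [∀ i, Module.Flat R (P.X i)] {t : ℕ} (I : Fin (t + 1) → Ideal R)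
    (hfg : ∀ k, (I k).FG) (hnil : IsNilpotent (I 0)) (hlast : I (Fin.last t) = ⊤)
    (hmono : ∀ k : Fin t, I k.castSucc ≤ I k.succ)
    (h : ∀ (k : Fin t), ∀ g ∈ I k.succ, ∀ (M : Type u) [AddCommGroup M] [Module R M],
      (∀ a ∈ I k.castSucc, ∀ m : M, a • m = 0) → Function.Bijective (fun m : M => g • m) → NegVanish P M)
    (M : Type u) [AddCommGroup M] [Module R M] : NegVanish P M := by
  have key : ∀ k : Fin (t + 1), ∀ (M : Type u) [AddCommGroup M] [Module R M],
      (∀ a ∈ I k, ∀ m : M, a • m = 0) → NegVanish P M := by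
    intro k
    induction k using Fin.reverseInduction with
    | last =>
      intro M _ _ hM i _
      haveI : Subsingleton M := ⟨fun a b => by
        rw [← one_smul R a, ← one_smul R b, hM 1 (hlast ▸ trivial), hM 1 (hlast ▸ trivial)]⟩
      exact isZero_tensor_of_subsingleton P i M
    | cast k ih =>
      obtain ⟨s, hs⟩ := hfg k.succ
      refine negVanish_finset s (I k.castSucc) (fun M _ _ hM => ih M ?_)
        (fun g hg => h k g (hs ▸ Ideal.subset_span hg))
      rwa [show I k.castSucc ⊔ Ideal.span s = I k.succ by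
        rw [show Ideal.span (s : Set R) = I k.succ from hs]; exact sup_eq_right.2 (hmono k)] at hM
  intro i hi
  exact isZero_tensor_of_nilpotent P i (I 0) hnil (fun M _ _ hM => key 0 M (fun a ha m =>
    (Submodule.mem_bot R).1 (hM ▸ Submodule.smul_mem_smul ha (Submodule.mem_top (x := m)))) i hi) M

end Groth.GenStrata
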