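import Groth.Agent.GenStrata.RadChain
import Groth.Agent.GenStrata.FlatDevissage
import Groth.Agent.DerivedCoh.StalkAmp.Descent
import Groth.Agent.DerivedCoh.TildeD.Iff
import Groth.Agent.DerivedCoh.KFlat.Amplitude
import Groth.Agent.DerivedCoh.PCohDescent.Main
import Groth.Agent.DAlg.NilpotentAmp
import Groth.Agent.Misc4.QCohDColim
import Groth.Agent.PropsBasic2.TildeExact
import Groth.Agent.S0997
import Groth.Agent.S1055

/-!
Flatness in degree zero descends along surjective morphisms of finite presentation.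
-/

set_option autoImplicit false
set_option linter.style.haveILetI false
universe u

open CategoryTheory CategoryTheory.Limits AlgebraicGeometry TopologicalSpace HomologicalComplex
open Groth.DerivedCoh

namespace Groth.GenStrata

attribute [local instance] HasDerivedCategory.standard

/-- Flat amplitude descends along jointly surjective flat morphisms, point by point. -/
theorem flatAmp_of_flat_points {Y : Scheme.{u}} (E : DCoh.D Y) (a b : ℤ)
    (h : ∀ y : Y, ∃ (T : Scheme.{u}) (p : T ⟶ Y) (_ : Flat p) (_ : DCoh.HasLpull p) (t : T),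
      p t = y ∧ DCoh.HasFlatAmplitudeIn a b ((DCoh.Lpull p).obj E)) :
    DCoh.HasFlatAmplitudeIn a b E := by
  obtain ⟨C, ⟨eC⟩⟩ := Groth.KTheory.Perf.exists_rep E
  have := KFlat.flatResolution_quasiIso C
  let P := (KFlat.flatResolution Y).obj C
  have hP : KFlat.IsKFlat (KFlat.T Y) P := KFlat.flatResolution_isKFlat C
  let eP : DCoh.toD Y P ≅ E :=
    asIso (DerivedCategory.Q.map ((KFlat.flatResolutionAug Y).app C)) ≪≫ eC
  refine StalkAmp.flatAmp_of_stalkAmp (StalkAmp.HasStalkAmp.of_iso eP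
    ((StalkAmp.stalkAmp_toD_iff P a b).2 fun y => ?_))
  obtain ⟨T, p, _, _, t, rfl, hamp⟩ := h y
  have h' := (StalkAmp.stalkAmp_toD_iff _ a b).1 ((StalkAmp.stalkAmp_of_flatAmp hamp).of_iso
    ((DCoh.Lpull p).mapIso eP.symm ≪≫ KFlat.lpullQIso p P hP))
  have hflat : (p.stalkMap t).hom.FaithfullyFlat := by
    let _ := (p.stalkMap t).hom.toAlgebra
    have : Module.Flat (Y.presheaf.stalk (p t)) (T.presheaf.stalk t) := Flat.stalkMap p t
    have : IsLocalHom (algebraMap (Y.presheaf.stalk (p t)) (T.presheaf.stalk t)) :=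
      inferInstanceAs (IsLocalHom (p.stalkMap t).hom)
    exact Module.FaithfullyFlat.of_flat_of_isLocalHom
  refine StalkAmp.torAmp_of_extendScalars (p.stalkMap t).hom hflat _ ?_
  exact StalkAmp.torAmp_of_iso (DerivedCategory.Q.mapIso
    ((NatIso.mapHomologicalComplex (KFlat.pullStkIso p t) (ComplexShape.up ℤ)).app P)) (h' t)

theorem flatAmp_of_iso {X : Scheme.{u}} {K L : DCoh.D X} {a b : ℤ} (e : K ≅ L)
    (h : DCoh.HasFlatAmplitudeIn a b K) : DCoh.HasFlatAmplitudeIn a b L := by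
  obtain ⟨E, h1, h2, ⟨e'⟩⟩ := h
  exact ⟨E, h1, h2, ⟨e' ≪≫ e⟩⟩

theorem nonempty_Lpull_comp {X Y Z : Scheme.{u}} (f : X ⟶ Y) (g : Y ⟶ Z) [DCoh.HasLpull f] [DCoh.HasLpull g]
    [DCoh.HasLpull (f ≫ g)] (K : DCoh.D Z) :
    Nonempty ((DCoh.Lpull f).obj ((DCoh.Lpull g).obj K) ≅ (DCoh.Lpull (f ≫ g)).obj K) :=
  let ⟨e⟩ := KFlat.Lpull_comp_iso f g
  ⟨e.app K⟩

/-- Transport of flat amplitude to a stratum through a section after a flat covering. -/
theorem flatAmp_of_radSection {X S T : Scheme.{u}} (f : X ⟶ S) [DCoh.HasLpull f] (e : T ⟶ S)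
    [DCoh.HasLpull e] (h : RadSection f e) (K : DCoh.D S)
    (hK : DCoh.HasFlatAmplitudeIn 0 0 ((DCoh.Lpull f).obj K)) :
    DCoh.HasFlatAmplitudeIn 0 0 ((DCoh.Lpull e).obj K) := by
  obtain ⟨T', T'', h, g, σ, ⟨_, _, _, _⟩, ⟨_, _, _, _, _, _⟩, hσ⟩ := h
  haveI := KFlat.hasLpull σ
  haveI := KFlat.hasLpull (g ≫ h)
  haveI := KFlat.hasLpull ((g ≫ h) ≫ e)
  haveI := KFlat.hasLpull (σ ≫ f)
  haveI : Surjective (g ≫ h) := inferInstance
  haveI : Flat (g ≫ h) := inferInstance
  obtain ⟨e₁⟩ := nonempty_Lpull_comp (g ≫ h) e K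
  obtain ⟨e₂⟩ := nonempty_Lpull_comp σ f K
  have heq : σ ≫ f = (g ≫ h) ≫ e := by rw [Category.assoc]; exact hσ
  refine StalkAmp.flatAmp_descends (g ≫ h) _ 0 0 (flatAmp_of_iso (e₂ ≪≫ ?_ ≪≫ e₁.symm) (KFlat.flatAmp_Lpull σ hK))
  exact eqToIso (by congr 2)

variable (A : Type u) [CommRing A]

/-- The affine case. -/
theorem torAmp_of_surjective_fp {X : Scheme.{u}} (f : X ⟶ Spec (CommRingCat.of A)) [Surjective f]
    [LocallyOfFinitePresentation f] [QuasiCompact f] [QuasiSeparated f] [DCoh.HasLpull f]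
    [PreservesFiniteLimits (tilde.functor (CommRingCat.of A))] (K : Dual.D A)
    (hb : ∀ i, (0 : ℤ) < i → Subsingleton (Dual.HD A K i))
    (hK : DCoh.HasFlatAmplitudeIn 0 0 ((DCoh.Lpull f).obj ((DCoh.tildeD (CommRingCat.of A)).obj K))) :
    DRing.HasTorAmplitudeIn A 0 0 K := by
  obtain ⟨P, hP, hfree, ⟨eP⟩⟩ := Groth.DAlg.exists_free_rep A hb
  have hflat : DRing.TermwiseFlat P := fun i => haveI := hfree i; inferInstance
  haveI : ∀ i, Module.Flat A (P.X i) := hflat
  obtain ⟨t, J, hmono, hlast, h0, hfg, hrad⟩ := exists_radChain f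
  let T₀ : (Spec (CommRingCat.of A)).affineOpens := ⟨⊤, isAffineOpen_top _⟩
  let ε := (Scheme.ΓSpecIso (CommRingCat.of A)).symm.commRingCatIsoToRingEquiv
  let I : Fin (t + 1) → Ideal A := fun k => ((J k).ideal T₀).comap ε.toRingHom
  have hIfg : ∀ k, (I k).FG := fun k => by
    have : I k = ((J k).ideal T₀).map ε.symm.toRingHom :=
      (Ideal.map_symm (I := (J k).ideal T₀) ε).symm
    rw [this]
    exact (hfg k T₀).map _
  have hnil : IsNilpotent (I 0) := by
    refine (Ideal.FG.isNilpotent_iff_le_nilradical (hIfg 0)).2 fun a ha => ?_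
    rw [nilradical_eq_sInf, Ideal.mem_sInf]
    intro p hp
    have hmem : (⟨p, hp⟩ : Spec (CommRingCat.of A)) ∈
        ((J 0).support : Set (Spec (CommRingCat.of A))) ∩ (T₀.1 : Set (Spec (CommRingCat.of A))) := ⟨h0 ▸ trivial, trivial⟩
    rw [Scheme.IdealSheafData.coe_support_inter] at hmem
    have h1 := (Scheme.mem_zeroLocus_iff _ _ _).1 hmem.1 (ε a) ha
    by_contra h2
    exact h1 ((AlgebraicGeometry.basicOpen_eq_of_affine (R := CommRingCat.of A) a).symm.le h2)
  refine StalkAmp.torAmp_of_iso eP (Groth.DAlg.torAmplitude_of_isZero P hP hflat fun M i hi => ?_)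
  refine negVanish_chain I hIfg hnil (by simp [I, hlast]) (fun k a ha => hmono k.castSucc_le_succ T₀ ha)
    (fun k g hg M _ _ hM hbij => ?_) M i hi
  -- modules on the stratum where `g` is invertible
  let Ag := Localization.Away g
  let Ik : Ideal Ag := (I k.castSucc).map (algebraMap A Ag)
  let C := Ag ⧸ Ik
  let φ : A →+* C := algebraMap A C
  let c : Spec (CommRingCat.of C) ⟶ Spec (CommRingCat.of A) := Spec.map (CommRingCat.ofHom φ)
  have hnat : ∀ a : A, c.appTop.hom (ε a) = (Scheme.ΓSpecIso (CommRingCat.of C)).inv (φ a) := fun a =>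
    congr($(Scheme.ΓSpecIso_inv_naturality (CommRingCat.ofHom φ)) a).symm
  have hker : (J k.castSucc).subschemeι.ker ≤ c.ker := by
    rw [Scheme.IdealSheafData.ker_subschemeι]
    refine Scheme.IdealSheafData.le_of_isAffine fun b hb => ?_
    rw [Scheme.Hom.ker_apply, RingHom.mem_ker]
    obtain ⟨a, rfl⟩ : ∃ a, ε a = b := ε.surjective b
    refine (hnat a).trans ?_
    have hφ0 : φ a = 0 := by
      change Ideal.Quotient.mk Ik (algebraMap A Ag a) = 0
      rw [Ideal.Quotient.eq_zero_iff_mem]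
      exact Ideal.mem_map_of_mem _ hb
    rw [hφ0, map_zero]; rfl
  let z₀ := IsClosedImmersion.lift (J k.castSucc).subschemeι c hker
  have hz₀ : z₀ ≫ (J k.castSucc).subschemeι = c := IsClosedImmersion.lift_fac _ _ hker
  let W := (J k.castSucc).subschemeι ⁻¹ᵁ (J k.succ).support.compl
  have hrange : Set.range z₀ ⊆ Set.range W.ι := by
    rw [Scheme.Opens.range_ι]
    rintro _ ⟨q, rfl⟩
    show (J k.castSucc).subschemeι (z₀ q) ∈ ((J k.succ).support : Set _)ᶜ
    rw [← Scheme.Hom.comp_apply, hz₀]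
    intro hmem
    have hmem' : c q ∈ ((J k.succ).support : Set (Spec (CommRingCat.of A))) ∩ (T₀.1 : Set (Spec (CommRingCat.of A))) :=
      ⟨hmem, trivial⟩
    rw [Scheme.IdealSheafData.coe_support_inter] at hmem'
    refine (Scheme.mem_zeroLocus_iff _ _ _).1 hmem'.1 (ε g) hg ?_
    refine (AlgebraicGeometry.basicOpen_eq_of_affine (R := CommRingCat.of A) g).symm.le ?_
    show φ g ∉ q.asIdeal
    exact fun h => q.isPrime.ne_top (q.asIdeal.eq_top_of_isUnit_mem h
      ((IsLocalization.Away.algebraMap_isUnit g).map (Ideal.Quotient.mk Ik)))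
  let z := IsOpenImmersion.lift W.ι z₀ hrange
  have hz : z ≫ W.ι ≫ (J k.castSucc).subschemeι = c := by
    rw [IsOpenImmersion.lift_fac_assoc, hz₀]
  haveI := KFlat.hasLpull c
  have hamp := flatAmp_of_radSection f c
    (RadSection.of_sq (IsPullback.of_id_fst (f := f)) (z := z) (by rw [Category.comp_id]; exact hz) (hrad k)) _ hK
  haveI : PreservesFiniteLimits (tilde.functor (CommRingCat.of C)) :=
    Groth.PropsBasic2.preservesFiniteLimits_tilde _
  haveI : DRing.HasLBaseChange φ := Groth.DAlg.hasLBaseChange _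
  obtain ⟨eS⟩ := Groth.Agent.S1055.result φ
  have hC : DRing.HasTorAmplitudeIn C 0 0 ((DRing.LBaseChange φ).obj K) :=
    (Groth.DerivedCoh.TildeD.hasFlatAmplitudeIn_tildeD_iff _ 0 0).1 (flatAmp_of_iso (eS.app K).symm hamp)
  obtain ⟨eB⟩ := Groth.DAlg.nonempty_lBaseChangeFlatIso φ P hP hflat
  have hC' : DRing.HasTorAmplitudeIn C 0 0 (DRing.toD (Groth.DAlg.extCx φ P)) :=
    StalkAmp.torAmp_of_iso ((DRing.LBaseChange φ).mapIso eP.symm ≪≫ eB) hC
  -- the module
  intro i hi
  let M' := LocalizedModule (Submonoid.powers g) M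
  let ℓ : M →ₗ[A] M' := LocalizedModule.mkLinearMap _ M
  haveI : IsLocalizedModule (Submonoid.powers g) ℓ := localizedModuleIsLocalizedModule _
  haveI : IsLocalizedModule (Submonoid.powers g) (LinearMap.id : M →ₗ[A] M) := by
    refine ⟨fun ⟨s, n, hn⟩ => ?_, fun y => ⟨(y, 1), one_smul _ y⟩, fun h => ⟨1, by simpa using h⟩⟩
    change IsUnit (algebraMap A (Module.End A M) s)
    rw [← (show g ^ n = s from hn), map_pow]
    exact ((Module.End.isUnit_iff _).2 hbij).pow n
  let eM : M' ≃ₗ[A] M := IsLocalizedModule.linearEquiv (Submonoid.powers g) ℓ LinearMap.id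
  refine Groth.DAlg.isZero_tensor_of_linearEquiv P i eM ?_
  haveI : IsScalarTower A Ag M' := inferInstance
  obtain ⟨mC, hT⟩ := Groth.DAlg.exists_module_of_killed (R := Ag) (S := C) Ideal.Quotient.mk_surjective M' (by
    have : RingHom.ker (algebraMap Ag C) = Ik := Ideal.mk_ker
    rw [this, eq_bot_iff, Submodule.smul_le]
    intro r hr m _
    rw [Submodule.mem_bot]
    induction hr using Submodule.span_induction generalizing m with
    | mem r hr =>
      obtain ⟨a, ha, rfl⟩ := hr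
      rw [IsScalarTower.algebraMap_smul]
      apply eM.injective
      rw [map_smul, hM a ha, map_zero]
    | zero => exact zero_smul _ m
    | add r r' _ _ h h' => rw [add_smul, h m trivial, h' m trivial, add_zero]
    | smul r r' _ h => rw [smul_eq_mul, mul_smul, h m trivial, smul_zero])
  haveI : IsScalarTower A C M' := ⟨fun a y m => by
    obtain ⟨y, rfl⟩ := Ideal.Quotient.mk_surjective y
    change (algebraMap Ag C (a • y)) • m = a • (algebraMap Ag C y • m)
    rw [algebraMap_smul, algebraMap_smul, smul_assoc]⟩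
  exact (Groth.DAlg.isZero_extCx_tensor_iff P M' i).1 (Groth.DAlg.isZero_of_torAmplitude _
    (fun j hj => (ModuleCat.extendScalars φ).map_isZero (hP j hj)) (Groth.DAlg.termwiseFlat_extCx φ hflat) hC'
    (ModuleCat.of C M') i (Or.inl hi))

variable {A}

theorem flat_degree_zero_descends {X S : Scheme.{u}} (f : X ⟶ S) [Surjective f]
    [LocallyOfFinitePresentation f] [QuasiCompact f] [QuasiSeparated f] [DCoh.HasLpull f]
    (M : DCoh.D S) (hM : DCoh.IsQCohD M) (hpos : ∀ i : ℤ, 0 < i → IsZero (DCoh.HD M i))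
    (h2 : DCoh.HasFlatAmplitudeIn 0 0 ((DCoh.Lpull f).obj M)) :
    DCoh.HasFlatAmplitudeIn 0 0 M := by
  refine flatAmp_of_flat_points M 0 0 fun y => ?_
  obtain ⟨V, hV, hy, -⟩ := exists_isAffineOpen_mem_and_subset (x := y) (U := ⊤) trivial
  let A : Type u := Γ(S, V)
  let j : Spec (CommRingCat.of A) ⟶ S := hV.fromSpec
  obtain ⟨v, hv⟩ : y ∈ Set.range j := by rw [hV.range_fromSpec]; exact hy
  haveI := KFlat.hasLpull j
  haveI : Flat j := inferInstance
  refine ⟨_, j, inferInstance, inferInstance, v, hv, ?_⟩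
  haveI : PreservesFiniteLimits (tilde.functor (CommRingCat.of A)) := Groth.PropsBasic2.preservesFiniteLimits_tilde _
  obtain ⟨K, ⟨eK⟩⟩ := ((Groth.Agent.S0997.result (CommRingCat.of A)).2.2 _).1
    (Groth.Misc4.QCohDColim.isQCohD_Lpull j hM)
  refine flatAmp_of_iso eK ((Groth.DerivedCoh.TildeD.hasFlatAmplitudeIn_tildeD_iff K 0 0).2 ?_)
  let f' := pullback.snd f j
  let g' := pullback.fst f j
  haveI := KFlat.hasLpull f'
  haveI := KFlat.hasLpull g'
  haveI := KFlat.hasLpull (g' ≫ f)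
  haveI := KFlat.hasLpull (f' ≫ j)
  refine torAmp_of_surjective_fp A f' K (fun i hi => ?_) ?_
  · obtain ⟨e⟩ := Groth.DerivedCoh.PCohDescent.nonempty_hdLpull j M i
    exact ModuleCat.subsingleton_of_isZero ((Groth.DerivedCoh.TildeD.isZero_HD_iff K i).1
      ((((Scheme.Modules.pullback j).map_isZero (hpos i hi)).of_iso e).of_iso
        ((DerivedCategory.homologyFunctor _ i).mapIso eK)))
  · obtain ⟨e₁⟩ := nonempty_Lpull_comp f' j M
    obtain ⟨e₂⟩ := nonempty_Lpull_comp g' f M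
    refine flatAmp_of_iso (e₂ ≪≫ eqToIso ?_ ≪≫ e₁.symm ≪≫ (DCoh.Lpull f').mapIso eK.symm) (KFlat.flatAmp_Lpull g' h2)
    congr 2
    exact pullback.condition

theorem exists_flat_iso_inD {S : Scheme.{u}} (M : DCoh.D S) (h : DCoh.HasFlatAmplitudeIn 0 0 M) :
    ∃ G : S.Modules, FlatMod.IsFlat G ∧ Nonempty (M ≅ DCoh.inD S G) := by
  obtain ⟨E, hE, hf, ⟨e⟩⟩ := h
  haveI : E.IsStrictlyGE 0 := (CochainComplex.isStrictlyGE_iff E 0).2 fun i hi => hE i (Or.inl hi)
  haveI : E.IsStrictlyLE 0 := (CochainComplex.isStrictlyLE_iff E 0).2 fun i hi => hE i (Or.inr hi)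
  obtain ⟨G, ⟨eG⟩⟩ := E.exists_iso_single 0
  refine ⟨G, ?_, ⟨e.symm ≪≫ DerivedCategory.Q.mapIso eG ≪≫
    ((DerivedCategory.singleFunctorIsoCompQ S.Modules 0).symm.app G)⟩⟩
  exact Groth.CohTwo.isFlat_of_iso
    (((HomologicalComplex.eval _ (ComplexShape.up ℤ) 0).mapIso eG : E.X 0 ≅ _) ≪≫
      singleObjXSelf (ComplexShape.up ℤ) 0 G).symm (hf 0)

end Groth.GenStrata
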