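import Groth.Agent.GenStrata.Top
import Groth.Agent.Limits.Approximation
import Groth.Agent.Limits.IntegralApprox
import Groth.Agent.S0591
import Groth.Agent.PropsBasic2.Reduced

/-!
The smoothness stratification of a morphism of finite presentation over a quasi-compact
quasi-separated base, by Noetherian approximation and Noetherian induction.
-/

set_option autoImplicit false
set_option linter.style.haveILetI false
universe u

open CategoryTheory CategoryTheory.Limits AlgebraicGeometry TopologicalSpace Opposite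

namespace Groth.GenStrata

/-- A chain of finite type ideals with strata smooth over the base. -/
def SmoothChain {P T : Scheme.{u}} (π : P ⟶ T) : Prop :=
  ∃ (t : ℕ) (J : Fin (t + 1) → P.IdealSheafData), Monotone J ∧ J (Fin.last t) = ⊤ ∧
    ((J 0).support : Set P) = Set.univ ∧ (∀ i, ∀ O : P.affineOpens, ((J i).ideal O).FG) ∧
    ∀ i : Fin t, Smooth (((J i.castSucc).subschemeι ⁻¹ᵁ (J i.succ).support.compl).ι ≫
      (J i.castSucc).subschemeι ≫ π)

theorem SmoothChain.of_isPullback {P T P₀ T₀ : Scheme.{u}} {m : P ⟶ P₀} {π : P ⟶ T} {π₀ : P₀ ⟶ T₀}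
    {w : T ⟶ T₀} (H : IsPullback m π π₀ w) (h : SmoothChain π₀) : SmoothChain π := by
  obtain ⟨t, J, hmono, hlast, h0, hfg, hsm⟩ := h
  refine ⟨t, fun i => (J i).comap m, fun a b hab => Scheme.IdealSheafData.comap_mono m (hmono hab),
    ?_, ?_, fun i => Groth.Limits.fg_comap m _ (hfg i), fun i => ?_⟩
  · simp [hlast]
  · simp [Scheme.IdealSheafData.support_comap, h0]
  · obtain ⟨s, hs⟩ := isPullback_stratum m (J i.castSucc) (J i.succ) _ _ rfl rfl
    have hT := hs.paste_vert H
    have h1 : Smooth ((((J i.castSucc).subschemeι ⁻¹ᵁ (J i.succ).support.compl).ι ≫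
        (J i.castSucc).subschemeι) ≫ π₀) := by rw [Category.assoc]; exact hsm i
    have h2 := MorphismProperty.of_isPullback (P := @Smooth) hT h1
    rw [Category.assoc] at h2
    exact h2

/-- After a surjective finite locally free cover of `Z` the morphism has a smooth chain. -/
def StrataOver {X S : Scheme.{u}} (f : X ⟶ S) {Z : Scheme.{u}} (j : Z ⟶ S) : Prop :=
  ∃ (T : Scheme.{u}) (v : T ⟶ Z), Surjective v ∧ Mor2.IsFinLocFree v ∧
    SmoothChain (pullback.snd f (v ≫ j))

theorem StrataOver.of_isPullback {X S X₀ S₀ Z Z₀ : Scheme.{u}} {f : X ⟶ S} {f₀ : X₀ ⟶ S₀} {g : X ⟶ X₀}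
    {π : S ⟶ S₀} (H : IsPullback g f f₀ π) {j : Z ⟶ S} {j₀ : Z₀ ⟶ S₀} {z : Z ⟶ Z₀}
    (hz : z ≫ j₀ = j ≫ π) (h : StrataOver f₀ j₀) : StrataOver f j := by
  obtain ⟨T₀, v₀, hsurj, ⟨hf, hfl, hlfp⟩, hchain⟩ := h
  refine ⟨pullback v₀ z, pullback.snd v₀ z, MorphismProperty.pullback_snd _ _ hsurj,
    ⟨MorphismProperty.pullback_snd _ _ hf, MorphismProperty.pullback_snd _ _ hfl,
      MorphismProperty.pullback_snd _ _ hlfp⟩, ?_⟩
  have e : pullback.fst v₀ z ≫ v₀ ≫ j₀ = (pullback.snd v₀ z ≫ j) ≫ π := by
    rw [Category.assoc, ← hz, pullback.condition_assoc]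
  refine hchain.of_isPullback (m := pullback.lift (pullback.fst f (pullback.snd v₀ z ≫ j) ≫ g)
    (pullback.snd f _ ≫ pullback.fst v₀ z) ?_) (w := pullback.fst v₀ z) ?_
  · rw [Category.assoc, Category.assoc, H.w, e, pullback.condition_assoc]
  · refine IsPullback.of_right ?_ (pullback.lift_snd _ _ _) (IsPullback.of_hasPullback f₀ (v₀ ≫ j₀))
    rw [pullback.lift_fst, e]
    exact (IsPullback.of_hasPullback f (pullback.snd v₀ z ≫ j)).paste_horiz H

theorem exists_chain_noetherian {X S : Scheme.{u}} (f : X ⟶ S) [IsNoetherian S]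
    [LocallyOfFinitePresentation f] [QuasiCompact f] [QuasiSeparated f] (Z : Closeds S) :
    ∃ (t : ℕ) (I : Fin (t + 1) → S.IdealSheafData), Monotone I ∧ I (Fin.last t) = ⊤ ∧
      I 0 = Scheme.IdealSheafData.vanishingIdeal Z ∧
      ∀ i : Fin t, StrataOver f (((I i.castSucc).subschemeι ⁻¹ᵁ (I i.succ).support.compl).ι ≫
        (I i.castSucc).subschemeι) := by
  classical
  haveI : NoetherianSpace S := inferInstance
  induction Z using WellFoundedLT.induction with
  | ind Z ih =>
    rcases (Z : Set S).eq_empty_or_nonempty with hZ | ⟨x₀, hx₀⟩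
    · refine ⟨0, fun _ => ⊤, monotone_const, rfl, ?_, fun i => i.elim0⟩
      refine ((Scheme.IdealSheafData.support_eq_bot_iff _).1 ?_).symm
      exact SetLike.coe_injective (by simpa using hZ)
    · let K := Scheme.IdealSheafData.vanishingIdeal Z
      let Y := K.subscheme
      haveI : IsReduced Y := Groth.PropsBasic2.isReduced_vanishingIdeal_subscheme Z
      let c : Y ⟶ S := K.subschemeι
      have hrange : Set.range c = (Z : Set S) := by
        rw [Scheme.IdealSheafData.range_subschemeι, Scheme.IdealSheafData.coe_support_vanishingIdeal]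
      obtain ⟨y₀, -⟩ : x₀ ∈ Set.range c := hrange.symm ▸ hx₀
      haveI : IrreducibleSpace (irreducibleComponent y₀ : Set Y) :=
        (Subtype.irreducibleSpace isIrreducible_irreducibleComponent)
      have hgen := isIrreducible_irreducibleComponent (x := y₀)
      obtain ⟨U, V, v, hηU, hv, -, hvf, hchain⟩ := exists_strata (pullback.snd f c) hgen.genericPoint
        (irreducibleComponent y₀) (irreducibleComponent_mem_irreducibleComponents y₀)
        (by simpa [isClosed_irreducibleComponent.closure_eq] using hgen.isGenericPoint_genericPoint_closure)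
      let Z' : Closeds S := ⟨c '' (U : Set Y)ᶜ, c.isClosedEmbedding.isClosedMap _ U.2.isClosed_compl⟩
      have hlt : Z' < Z := by
        refine lt_of_le_of_ne ?_ fun he => ?_
        · rintro _ ⟨y, -, rfl⟩; exact (Set.ext_iff.1 hrange _).1 (Set.mem_range_self y)
        · have hm : c hgen.genericPoint ∈ (Z' : Set S) := by rw [he, ← hrange]; exact Set.mem_range_self _
          obtain ⟨y, hy, hye⟩ := hm
          exact hy (c.isClosedEmbedding.injective hye ▸ hηU)
      obtain ⟨t, I, hmono, hlast, h0, hI⟩ := ih Z' hlt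
      refine ⟨t + 1, Fin.cons K I, ?_, ?_, rfl, ?_⟩
      · refine Fin.monotone_iff_le_succ.mpr fun i => ?_
        refine Fin.cases ?_ (fun i => ?_) i
        · simpa [h0] using Scheme.IdealSheafData.vanishingIdeal_antimono hlt.le
        · rw [← Fin.succ_castSucc, Fin.cons_succ, Fin.cons_succ]
          exact Fin.monotone_iff_le_succ.mp hmono i
      · rw [← Fin.succ_last, Fin.cons_succ, hlast]
      · refine Fin.cases ?_ fun i => ?_
        · rw [show (Fin.cons K I : Fin (t + 2) → S.IdealSheafData) (Fin.succ (0 : Fin (t + 1))) =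
            Scheme.IdealSheafData.vanishingIdeal Z' by rw [Fin.cons_succ, h0]]
          have hU : c ⁻¹ᵁ (Scheme.IdealSheafData.vanishingIdeal Z').support.compl = U := by
            ext y
            change c y ∈ ((Scheme.IdealSheafData.vanishingIdeal Z').support : Set S)ᶜ ↔ y ∈ (U : Set Y)
            rw [Scheme.IdealSheafData.coe_support_vanishingIdeal]
            constructor
            · exact fun h => by_contra fun h' => h ⟨y, h', rfl⟩
            · rintro h ⟨y', hy', he⟩; exact hy' (c.isClosedEmbedding.injective he ▸ h)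
          change StrataOver f ((c ⁻¹ᵁ _).ι ≫ c)
          rw [hU]
          refine ⟨V, v, hv, hvf, ?_⟩
          refine SmoothChain.of_isPullback (m := pullback.lift
            (pullback.lift (pullback.fst f (v ≫ U.ι ≫ c)) (pullback.snd f _ ≫ v ≫ U.ι)
              (by simp [pullback.condition]))
            (pullback.snd f _) (by rw [pullback.lift_snd])) (w := 𝟙 V) ?_ hchain
          refine IsPullback.of_right ?_ (by rw [pullback.lift_snd, Category.comp_id]) (IsPullback.of_hasPullback _ _)
          rw [pullback.lift_fst, Category.id_comp]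
          refine IsPullback.of_right ?_ (pullback.lift_snd _ _ _) (IsPullback.of_hasPullback f c)
          rw [pullback.lift_fst, Category.assoc]
          exact IsPullback.of_hasPullback _ _
        · rw [← Fin.succ_castSucc, Fin.cons_succ, Fin.cons_succ]
          exact hI i

theorem exists_smoothness_stratification {X S : Scheme.{u}} (f : X ⟶ S) [LocallyOfFinitePresentation f]
    [QuasiCompact f] [QuasiSeparated f] [CompactSpace S] [QuasiSeparatedSpace S] :
    ∃ (t : ℕ) (I : Fin (t + 1) → S.IdealSheafData), Monotone I ∧ I (Fin.last t) = ⊤ ∧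
      ((I 0).support : Set S) = Set.univ ∧ (∀ i, ∀ U : S.affineOpens, ((I i).ideal U).FG) ∧
      ∀ i : Fin t, StrataOver f (((I i.castSucc).subschemeι ⁻¹ᵁ (I i.succ).support.compl).ι ≫
        (I i.castSucc).subschemeι) := by
  obtain ⟨A⟩ := Groth.Limits.exists_zsystem S
  haveI := A.affine
  haveI : ∀ i, CompactSpace (A.D.obj i) := A.compact
  obtain ⟨i, X₀, f₀, g, h1, h2, h3, H⟩ := Groth.Agent.S0591.result A.D A.cone A.isLimit X f
  haveI := h1
  haveI := h2
  haveI := h3
  obtain ⟨t, I, hmono, hlast, h0, hI⟩ := exists_chain_noetherian f₀ ⊤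
  let π := A.π.app i
  refine ⟨t, fun k => (I k).comap π, fun a b hab => Scheme.IdealSheafData.comap_mono π (hmono hab),
    ?_, ?_, fun k => Groth.Limits.fg_comap π _ (fun U => ?_), fun k => ?_⟩
  · simp [hlast]
  · rw [Scheme.IdealSheafData.support_comap, h0]
    simp
  · haveI : IsNoetherianRing Γ(A.D.obj i, U.1) := IsLocallyNoetherian.component_noetherian U
    exact IsNoetherian.noetherian _
  · obtain ⟨s, hs⟩ := isPullback_stratum π (I k.castSucc) (I k.succ) _ _ rfl rfl
    exact (hI k).of_isPullback H hs.w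

end Groth.GenStrata
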