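import Groth.Agent.GenStrata.Radicial
import Groth.Agent.GenStrata.Global

/-!
Chains of finite type ideals with flat radicial sections after étale covers on every stratum.
-/

set_option autoImplicit false
set_option linter.style.haveILetI false
universe u

open CategoryTheory CategoryTheory.Limits AlgebraicGeometry TopologicalSpace

namespace Groth.GenStrata

theorem RadSection.of_sq {X S X₀ S₀ Z Z₀ : Scheme.{u}} {f : X ⟶ S} {f₀ : X₀ ⟶ S₀} {g : X ⟶ X₀}
    {π : S ⟶ S₀} (H : IsPullback g f f₀ π) {e : Z ⟶ S} {e₀ : Z₀ ⟶ S₀} {z : Z ⟶ Z₀}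
    (hz : z ≫ e₀ = e ≫ π) (h : RadSection f₀ e₀) : RadSection f e := by
  obtain ⟨T', T'', h, r, σ, ⟨ha, hb, hc, hd'⟩, ⟨he1, he2, he3, he4, he5, he6⟩, hσ⟩ := h
  let p := pullback.fst h z
  let h' := pullback.snd h z
  refine ⟨_, _, h', pullback.snd r p,
    H.lift (pullback.fst r p ≫ σ) (pullback.snd r p ≫ h' ≫ e) ?_,
    ⟨MorphismProperty.pullback_snd _ _ ha, MorphismProperty.pullback_snd _ _ hb,
      MorphismProperty.pullback_snd _ _ hc, MorphismProperty.pullback_snd _ _ hd'⟩,
    ⟨MorphismProperty.pullback_snd _ _ he1, MorphismProperty.pullback_snd _ _ he2,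
      MorphismProperty.pullback_snd _ _ he3, MorphismProperty.pullback_snd _ _ he4,
      MorphismProperty.pullback_snd _ _ he5, MorphismProperty.pullback_snd _ _ he6⟩, H.lift_snd _ _ _⟩
  simp only [Category.assoc, hσ, p, h']
  rw [← hz, pullback.condition_assoc, pullback.condition_assoc]

theorem exists_radChain_noetherian {X S : Scheme.{u}} (f : X ⟶ S) [IsNoetherian S]
    [LocallyOfFiniteType f] [QuasiCompact f] [Surjective f] (Z : Closeds S) :
    ∃ (t : ℕ) (I : Fin (t + 1) → S.IdealSheafData), Monotone I ∧ I (Fin.last t) = ⊤ ∧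
      I 0 = Scheme.IdealSheafData.vanishingIdeal Z ∧
      ∀ i : Fin t, RadSection f (((I i.castSucc).subschemeι ⁻¹ᵁ (I i.succ).support.compl).ι ≫
        (I i.castSucc).subschemeι) := by
  classical
  haveI : NoetherianSpace S := inferInstance
  induction Z using WellFoundedLT.induction with
  | ind Z ih =>
    rcases (Z : Set S).eq_empty_or_nonempty with hZ | ⟨x₀, hx₀⟩
    · refine ⟨0, fun _ => ⊤, monotone_const, rfl, ?_, fun i => i.elim0⟩
      refine ((Scheme.IdealSheafData.support_eq_bot_iff _).1 ?_).symm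
      exact SetLike.coe_injective (by simpa using hZ)
    · let K := Scheme.IdealSheafData.vanishingIdeal Z
      let Y := K.subscheme
      haveI : IsReduced Y := Groth.PropsBasic2.isReduced_vanishingIdeal_subscheme Z
      let c : Y ⟶ S := K.subschemeι
      have hrange : Set.range c = (Z : Set S) := by
        rw [Scheme.IdealSheafData.range_subschemeι, Scheme.IdealSheafData.coe_support_vanishingIdeal]
      haveI : NoetherianSpace Y := c.isClosedEmbedding.isInducing.noetherianSpace
      obtain ⟨y₀, -⟩ : x₀ ∈ Set.range c := hrange.symm ▸ hx₀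
      obtain ⟨o, ho, hne, hoW⟩ := NoetherianSpace.exists_isOpen_nonempty_subset_irreducibleComponent
        (irreducibleComponent y₀) (irreducibleComponent_mem_irreducibleComponents y₀)
      let V : Y.Opens := ⟨o, ho⟩
      haveI : Nonempty (V : Scheme.{u}) := hne.to_subtype
      haveI : IrreducibleSpace (V : Scheme.{u}) := by
        have hpi := (isIrreducible_irreducibleComponent (x := y₀)).2.open_subset ho hoW
        haveI : PreirreducibleSpace (V : Scheme.{u}) := Subtype.preirreducibleSpace hpi
        exact IrreducibleSpace.mk ‹_›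
      haveI : IsIntegral (V : Scheme.{u}) := isIntegral_of_irreducibleSpace_of_isReduced _
      obtain ⟨U₁, ⟨u₀, hu₀⟩, -, hQ⟩ := exists_radSection_generic f (V.ι ≫ c)
      let U : Y.Opens := V.ι ''ᵁ U₁
      let Z' : Closeds S := ⟨c '' (U : Set Y)ᶜ, c.isClosedEmbedding.isClosedMap _ U.2.isClosed_compl⟩
      have hlt : Z' < Z := by
        refine lt_of_le_of_ne ?_ fun he => ?_
        · rintro _ ⟨y, -, rfl⟩; exact (Set.ext_iff.1 hrange _).1 (Set.mem_range_self y)
        · have hm : c (V.ι u₀) ∈ (Z' : Set S) := by rw [he, ← hrange]; exact Set.mem_range_self _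
          obtain ⟨y, hy, hye⟩ := hm
          exact hy (c.isClosedEmbedding.injective hye ▸ ⟨u₀, hu₀, rfl⟩)
      obtain ⟨t, I, hmono, hlast, h0, hI⟩ := ih Z' hlt
      refine ⟨t + 1, Fin.cons K I, ?_, ?_, rfl, ?_⟩
      · refine Fin.monotone_iff_le_succ.mpr fun i => ?_
        refine Fin.cases ?_ (fun i => ?_) i
        · simpa [h0] using Scheme.IdealSheafData.vanishingIdeal_antimono hlt.le
        · rw [← Fin.succ_castSucc, Fin.cons_succ, Fin.cons_succ]
          exact Fin.monotone_iff_le_succ.mp hmono i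
      · rw [← Fin.succ_last, Fin.cons_succ, hlast]
      · refine Fin.cases ?_ fun i => ?_
        · rw [show (Fin.cons K I : Fin (t + 2) → S.IdealSheafData) (Fin.succ (0 : Fin (t + 1))) =
            Scheme.IdealSheafData.vanishingIdeal Z' by rw [Fin.cons_succ, h0]]
          have hU : c ⁻¹ᵁ (Scheme.IdealSheafData.vanishingIdeal Z').support.compl = U := by
            ext y
            change c y ∈ ((Scheme.IdealSheafData.vanishingIdeal Z').support : Set S)ᶜ ↔ y ∈ (U : Set Y)
            rw [Scheme.IdealSheafData.coe_support_vanishingIdeal]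
            constructor
            · exact fun h => by_contra fun h' => h ⟨y, h', rfl⟩
            · rintro h ⟨y', hy', he⟩; exact hy' (c.isClosedEmbedding.injective he ▸ h)
          change RadSection f ((c ⁻¹ᵁ _).ι ≫ c)
          rw [hU]
          exact RadSection.of_sq (IsPullback.of_id_fst (f := f)) (z := (V.ι.isoImage U₁).inv)
            (by simp [U]) hQ
        · rw [← Fin.succ_castSucc, Fin.cons_succ, Fin.cons_succ]
          exact hI i

theorem exists_radChain {X S : Scheme.{u}} (f : X ⟶ S) [LocallyOfFinitePresentation f]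
    [QuasiCompact f] [QuasiSeparated f] [Surjective f] [CompactSpace S] [QuasiSeparatedSpace S] :
    ∃ (t : ℕ) (I : Fin (t + 1) → S.IdealSheafData), Monotone I ∧ I (Fin.last t) = ⊤ ∧
      ((I 0).support : Set S) = Set.univ ∧ (∀ i, ∀ U : S.affineOpens, ((I i).ideal U).FG) ∧
      ∀ i : Fin t, RadSection f (((I i.castSucc).subschemeι ⁻¹ᵁ (I i.succ).support.compl).ι ≫
        (I i.castSucc).subschemeι) := by
  obtain ⟨A⟩ := Groth.Limits.exists_zsystem S
  haveI := A.affine
  haveI : ∀ i, CompactSpace (A.D.obj i) := A.compact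
  obtain ⟨i, X₀, f₀, g, h1, h2, h3, H⟩ := Groth.Agent.S0591.result A.D A.cone A.isLimit X f
  haveI := h1
  haveI := h2
  haveI := h3
  have hC₀ : Topology.IsConstructible (Set.range f₀) := by
    haveI : CompactSpace X₀ := QuasiCompact.compactSpace_of_compactSpace f₀
    rw [← Set.image_univ]
    exact f₀.isConstructible_image .univ
  obtain ⟨j, φ, hj⟩ := Groth.Limits.exists_preimage_subset A.D A.cone A.isLimit (i := i) (E := Set.univ)
    (F := Set.range f₀) Groth.Limits.pc_univ.qcImage
    (Groth.Limits.pc_compl_of_isConstructible hC₀) (fun s _ => by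
      obtain ⟨x, rfl⟩ := f.surjective s
      exact ⟨g x, by rw [← Scheme.Hom.comp_apply, H.w, Scheme.Hom.comp_apply]⟩)
  let f₁ : pullback f₀ (A.D.map φ) ⟶ A.D.obj j := pullback.snd _ _
  haveI : Surjective f₁ := ⟨fun s => by
    rw [← Set.mem_range, Scheme.Pullback.range_snd]
    exact hj (Set.mem_univ s)⟩
  let π := A.π.app j
  let g₁ : X ⟶ pullback f₀ (A.D.map φ) := pullback.lift g (f ≫ π) (by
    rw [Category.assoc, H.w]; exact congrArg (f ≫ ·) (A.cone.w φ).symm)
  have H₁ : IsPullback g₁ f f₁ π := IsPullback.of_right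
    (by rw [pullback.lift_fst, A.cone.w φ]; exact H) (pullback.lift_snd _ _ _) (IsPullback.of_hasPullback _ _)
  obtain ⟨t, I, hmono, hlast, h0, hI⟩ := exists_radChain_noetherian f₁ ⊤
  refine ⟨t, fun k => (I k).comap π, fun a b hab => Scheme.IdealSheafData.comap_mono π (hmono hab),
    ?_, ?_, fun k => Groth.Limits.fg_comap π _ (fun U => ?_), fun k => ?_⟩
  · simp [hlast]
  · rw [Scheme.IdealSheafData.support_comap, h0]
    simp
  · haveI : IsNoetherianRing Γ(A.D.obj j, U.1) := IsLocallyNoetherian.component_noetherian U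
    exact IsNoetherian.noetherian _
  · obtain ⟨s, hs⟩ := isPullback_stratum π (I k.castSucc) (I k.succ) _ _ rfl rfl
    exact RadSection.of_sq H₁ hs.w (hI k)

end Groth.GenStrata
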