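import Groth.Agent.GenStrata.Main
import Mathlib

/-!
Smooth stratification near a generic point of a reduced scheme.
-/

set_option autoImplicit false
set_option linter.style.haveILetI false
universe u

open CategoryTheory CategoryTheory.Limits AlgebraicGeometry TopologicalSpace

namespace Groth.GenStrata

/-- A point of a component which is generic is a minimal prime in any affine chart. -/
theorem primeIdealOf_mem_minimalPrimes {S : Scheme.{u}} {η : S} {W : Set S} (hW : W ∈ irreducibleComponents S)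
    (hη : IsGenericPoint η W) {V₀ : S.Opens} (hV₀ : IsAffineOpen V₀) (hmem : η ∈ V₀) :
    (hV₀.primeIdealOf ⟨η, hmem⟩).asIdeal ∈ minimalPrimes Γ(S, V₀) := by
  let p := hV₀.primeIdealOf ⟨η, hmem⟩
  refine ⟨⟨p.isPrime, bot_le⟩, fun Q hQ hle => ?_⟩
  let ξ := hV₀.fromSpec ⟨Q, hQ.1⟩
  have hspec : ξ ⤳ η := by
    have h1 : (⟨Q, hQ.1⟩ : PrimeSpectrum Γ(S, V₀)) ⤳ p := (PrimeSpectrum.le_iff_specializes _ _).1 hle
    have h2 := h1.map hV₀.fromSpec.continuous
    rwa [hV₀.fromSpec_primeIdealOf] at h2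
  have hsub : W ⊆ closure ({ξ} : Set S) := by
    rw [← hη.def]
    exact closure_minimal (Set.singleton_subset_iff.2 (specializes_iff_mem_closure.1 hspec)) isClosed_closure
  have heq : closure ({ξ} : Set S) = W :=
    (hW.2 isIrreducible_singleton.closure hsub).antisymm hsub
  have hξη : ξ = η := IsGenericPoint.eq heq hη
  have : (⟨Q, hQ.1⟩ : PrimeSpectrum Γ(S, V₀)) = p :=
    hV₀.fromSpec.isOpenEmbedding.injective (hξη.trans (hV₀.fromSpec_primeIdealOf ⟨η, hmem⟩).symm)
  exact (congrArg PrimeSpectrum.asIdeal this).ge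

/-- In a reduced ring an element of a minimal prime is killed by an element outside it. -/
theorem exists_mul_eq_zero {R : Type u} [CommRing R] [_root_.IsReduced R] (p : Ideal R) [p.IsPrime]
    (hp : p ∈ minimalPrimes R) {r : R} (hr : r ∈ p) : ∃ s ∉ p, s * r = 0 := by
  haveI := IsLocalization.subsingleton_primeSpectrum_of_mem_minimalPrimes p hp (Localization.AtPrime p)
  haveI : _root_.IsReduced (Localization.AtPrime p) :=
    isReduced_localizationPreserves p.primeCompl _ inferInstance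
  have h1 : algebraMap R (Localization.AtPrime p) r ∈ nilradical (Localization.AtPrime p) := by
    rw [nilradical_eq_sInf, Ideal.mem_sInf]
    intro J hJ
    have hm : algebraMap R (Localization.AtPrime p) r ∈ IsLocalRing.maximalIdeal (Localization.AtPrime p) :=
      (IsLocalization.AtPrime.to_map_mem_maximal_iff (Localization.AtPrime p) p r).2 hr
    have e : (⟨J, hJ⟩ : PrimeSpectrum (Localization.AtPrime p)) = IsLocalRing.closedPoint _ :=
      Subsingleton.elim _ _
    rwa [show J = IsLocalRing.maximalIdeal (Localization.AtPrime p) from congrArg PrimeSpectrum.asIdeal e]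
  rw [nilradical_eq_zero, Ideal.zero_eq_bot, Ideal.mem_bot, IsLocalization.map_eq_zero_iff p.primeCompl] at h1
  obtain ⟨⟨s, hs⟩, hsr⟩ := h1
  exact ⟨s, hs, hsr⟩

theorem exists_strata {X S : Scheme.{u}} (f : X ⟶ S) [LocallyOfFinitePresentation f] [QuasiCompact f]
    [QuasiSeparated f] [IsReduced S] (η : S) (W : Set S) (hW : W ∈ irreducibleComponents S)
    (hη : IsGenericPoint η W) :
    ∃ (U : S.Opens) (V : Scheme.{u}) (v : V ⟶ (U : Scheme.{u})),
      η ∈ U ∧ Surjective v ∧ UniversallyInjective v ∧ Mor2.IsFinLocFree v ∧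
      ∃ (t : ℕ) (J : Fin (t + 1) → (pullback f (v ≫ U.ι)).IdealSheafData), Monotone J ∧ J (Fin.last t) = ⊤ ∧
        ((J 0).support : Set ↑(pullback f (v ≫ U.ι))) = Set.univ ∧
        (∀ i, ∀ O : (pullback f (v ≫ U.ι)).affineOpens, ((J i).ideal O).FG) ∧
        ∀ i : Fin t, Smooth (((J i.castSucc).subschemeι ⁻¹ᵁ (J i.succ).support.compl).ι ≫
          (J i.castSucc).subschemeι ≫ pullback.snd f (v ≫ U.ι)) := by
  classical
  obtain ⟨V₀, hV₀, hmem, -⟩ := exists_isAffineOpen_mem_and_subset (x := η) (U := ⊤) trivial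
  let R := Γ(S, V₀)
  let p := hV₀.primeIdealOf ⟨η, hmem⟩
  have hp : p.asIdeal ∈ minimalPrimes R := primeIdealOf_mem_minimalPrimes hW hη hV₀ hmem
  haveI : _root_.IsReduced R := IsReduced.component_reduced V₀
  let K := p.asIdeal.ResidueField
  have hker0 : ∀ r : R, algebraMap R K r = 0 ↔ r ∈ p.asIdeal := fun r =>
    Ideal.algebraMap_residueField_eq_zero
  obtain ⟨q, hqe⟩ := ExpChar.exists K
  haveI := hqe
  obtain ⟨h, hh, hq⟩ : ∃ h : R, h ∉ p.asIdeal ∧ (q.Prime → h * (q : R) = 0) := by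
    by_cases hp' : q.Prime
    · haveI : CharP K q := by
        cases hqe with
        | zero => exact absurd hp' Nat.not_prime_one
        | prime hprime => assumption
      have : (q : R) ∈ p.asIdeal := (hker0 _).1 (by rw [map_natCast, CharP.cast_eq_zero])
      obtain ⟨s, hs, h0⟩ := exists_mul_eq_zero p.asIdeal hp this
      exact ⟨s, hs, fun _ => h0⟩
    · exact ⟨1, p.asIdeal.ne_top_iff_one.1 p.isPrime.ne_top, fun h => absurd h hp'⟩
  let B := Localization.Away h
  have hhK : algebraMap R K h ≠ 0 := fun h0 => hh ((hker0 h).1 h0)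
  let ρ : B →+* K := IsLocalization.Away.lift h (isUnit_iff_ne_zero.2 hhK)
  have hρ : ∀ r, ρ (algebraMap R B r) = algebraMap R K r := IsLocalization.Away.lift_eq h _
  have hsurj : ∀ x : K, ∃ b s, ρ s ≠ 0 ∧ x * ρ s = ρ b := by
    intro x
    obtain ⟨⟨a, s⟩, hx⟩ := IsLocalization.surj (nonZeroDivisors (R ⧸ p.asIdeal)) x
    obtain ⟨a', rfl⟩ := Ideal.Quotient.mk_surjective a
    obtain ⟨s', hs'⟩ := Ideal.Quotient.mk_surjective (s : R ⧸ p.asIdeal)
    refine ⟨algebraMap R B a', algebraMap R B s', ?_, ?_⟩ <;> rw [hρ, IsScalarTower.algebraMap_apply R (R ⧸ p.asIdeal) K]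
    · rw [Ideal.Quotient.algebraMap_eq, hs']
      exact (IsLocalization.map_units K s).ne_zero
    · rw [hρ, IsScalarTower.algebraMap_apply R (R ⧸ p.asIdeal) K, Ideal.Quotient.algebraMap_eq, hs']
      exact hx
  have hkerB : ∀ b, ρ b = 0 → ∃ s, ρ s ≠ 0 ∧ s * b = 0 := by
    intro b hb
    obtain ⟨⟨r, t⟩, hrt⟩ := IsLocalization.surj (Submonoid.powers h) b
    obtain ⟨s, hs, hsr⟩ := exists_mul_eq_zero p.asIdeal hp ((hker0 r).1 (by rw [← hρ r, ← hrt, map_mul, hb, zero_mul]))
    refine ⟨algebraMap R B s, fun h0 => hs ((hker0 s).1 (by rwa [hρ] at h0)), ?_⟩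
    refine (IsLocalization.map_units B t).mul_left_eq_zero.1 ?_
    rw [mul_assoc, hrt, ← map_mul, hsr, map_zero]
  let j₁ : Spec (CommRingCat.of B) ⟶ S := Spec.map (CommRingCat.ofHom (algebraMap R B)) ≫ hV₀.fromSpec
  haveI : IsOpenImmersion (Spec.map (CommRingCat.ofHom (algebraMap R B))) := IsOpenImmersion.of_isLocalization h
  obtain ⟨U, V, v, hU, rest⟩ := exists_strata_core f j₁ ρ hsurj hkerB q (fun hpr => by
    have h0 : algebraMap R B h * (q : B) = 0 := by rw [← map_natCast (algebraMap R B), ← map_mul, hq hpr, map_zero]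
    exact (IsLocalization.map_units B (⟨h, Submonoid.mem_powers h⟩ : Submonoid.powers h)).mul_right_eq_zero.1 h0)
  refine ⟨U, V, v, ?_, rest⟩
  convert hU using 1
  rw [Scheme.Hom.comp_apply]
  refine (hV₀.fromSpec_primeIdealOf ⟨η, hmem⟩).symm.trans (congrArg hV₀.fromSpec ?_)
  apply PrimeSpectrum.ext
  ext r
  change r ∈ p.asIdeal ↔ ρ (algebraMap R B r) ∈ (IsLocalRing.closedPoint K).asIdeal
  rw [hρ, ← hker0]
  change _ ↔ _ ∈ IsLocalRing.maximalIdeal K
  rw [IsLocalRing.maximalIdeal_eq_bot, Ideal.mem_bot]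

end Groth.GenStrata
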